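import Groth.Prelude.Def_GLin
import Mathlib.RingTheory.Flat.Basic
import Mathlib.RingTheory.Smooth.Flat
import Mathlib.RingTheory.Etale.Basic
import Mathlib.LinearAlgebra.TensorProduct.Tower

/-!
Invariants commute with a flat base change of the ring of invariants.
-/

set_option autoImplicit false

universe u

open TensorProduct HopfRep
open TensorProduct.AlgebraTensorModule (rightComm cancelBaseChange)

namespace Groth.Agent.H20Strict

noncomputable section

variable {k : Type u} [Field k] {A : Type u} [CommRing A] [HopfAlgebra k A]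
  {T : Type u} [CommRing T] [Algebra k T] [HopfRep.Comod k A T] [GLin.IsCoactAlg k A T]
  {Q : Type u} [CommRing Q] [Algebra k Q] [HopfRep.Comod k A Q] [GLin.IsCoactAlg k A Q]
  {S₀ R₀ S₁ R₁ : Type u} [CommRing S₀] [CommRing R₀] [CommRing S₁] [CommRing R₁] [Algebra k S₁] [Algebra k R₁]
  [Algebra k S₀] [Algebra k R₀]
  [Algebra S₀ T] [IsScalarTower k S₀ T] [Algebra T Q] [IsScalarTower k T Q]
  [Algebra S₀ R₀] [Algebra R₀ Q] [Algebra S₀ Q] [IsScalarTower S₀ T Q] [IsScalarTower S₀ R₀ Q]
  [Algebra S₁ T] [IsScalarTower k S₁ T] [Algebra R₁ Q] [IsScalarTower k R₁ Q]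
  [Algebra S₁ R₁] [Algebra S₁ Q] [IsScalarTower S₁ T Q] [IsScalarTower S₁ R₁ Q]
  [Algebra S₀ S₁] [IsScalarTower S₀ S₁ T] [IsScalarTower k S₀ Q]

theorem cartesian_of_flat [Module.Flat S₀ R₀] [hE : Algebra.Etale S₀ R₀]
    (hT : ∀ t : T, Comod.coact (k := k) (A := A) (algebraMap T Q t) =
      Algebra.TensorProduct.map (IsScalarTower.toAlgHom k T Q) (AlgHom.id k A) (Comod.coact (k := k) (A := A) t))
    (hR₀ : ∀ r : R₀, Comod.coact (k := k) (A := A) (algebraMap R₀ Q r) = algebraMap R₀ Q r ⊗ₜ[k] (1 : A))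
    (hS₀ : ∀ s : S₀, Comod.coact (k := k) (A := A) (algebraMap S₀ T s) = algebraMap S₀ T s ⊗ₜ[k] (1 : A))
    (hΦ : Function.Bijective
      (Algebra.TensorProduct.productMap (IsScalarTower.toAlgHom S₀ T Q) (IsScalarTower.toAlgHom S₀ R₀ Q)))
    (hS₁i : Function.Injective (algebraMap S₁ T))
    (hS₁ : (IsScalarTower.toAlgHom k S₁ T).range = GLin.invariants k A T)
    (hR₁i : Function.Injective (algebraMap R₁ Q))
    (hR₁ : (IsScalarTower.toAlgHom k R₁ Q).range = GLin.invariants k A Q) :
    Algebra.Etale T Q ∧ Algebra.Etale S₁ R₁ ∧ Function.Bijective (Algebra.TensorProduct.productMap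
        (IsScalarTower.toAlgHom S₁ T Q) (IsScalarTower.toAlgHom S₁ R₁ Q)) := by
  let Φ := Algebra.TensorProduct.productMap (IsScalarTower.toAlgHom S₀ T Q) (IsScalarTower.toAlgHom S₀ R₀ Q)
  have hΦt : ∀ (t : T) (r : R₀), Φ (t ⊗ₜ r) = algebraMap T Q t * algebraMap R₀ Q r := fun t r => by simp [Φ]
  let eT : T ⊗[S₀] R₀ ≃ₐ[T] Q := AlgEquiv.ofBijective
    (Algebra.TensorProduct.lift (Algebra.ofId T Q) (IsScalarTower.toAlgHom S₀ R₀ Q) fun _ _ => .all _ _) (by
      convert hΦ using 1
      funext z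
      induction z using TensorProduct.induction_on with
      | zero => simp
      | tmul t r => simp
      | add z z' h h' => rw [map_add, map_add, h, h'])
  have e1 : Algebra.Etale T Q := Algebra.Etale.of_equiv eT
  -- the coaction as a linear map over `S₀`
  let D : T →ₗ[S₀] T ⊗[k] A :=
    { toFun := fun t => Comod.coact (k := k) (A := A) t - t ⊗ₜ[k] (1 : A)
      map_add' := fun t t' => by rw [map_add, TensorProduct.add_tmul]; abel
      map_smul' := fun r t => by
        show Comod.coact (k := k) (A := A) (r • t) - (r • t) ⊗ₜ[k] (1 : A) = r • (_ - _)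
        rw [smul_sub, TensorProduct.smul_tmul']
        congr 1
        rw [Algebra.smul_def, GLin.IsCoactAlg.coact_mul, hS₀]
        generalize Comod.coact (k := k) (A := A) t = z
        induction z using TensorProduct.induction_on with
        | zero => simp
        | tmul p a => rw [TensorProduct.smul_tmul', Algebra.smul_def, Algebra.TensorProduct.tmul_mul_tmul, one_mul]
        | add z z' h h' => rw [smul_add, mul_add, h, h'] }
  let ι1 : S₁ →ₐ[S₀] T := IsScalarTower.toAlgHom S₀ S₁ T
  have hex : Function.Exact ι1.toLinearMap D := by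
    intro t
    constructor
    · intro ht
      have : t ∈ GLin.invariants k A T := sub_eq_zero.1 ht
      rw [← hS₁] at this
      exact this
    · rintro ⟨s, rfl⟩
      have : algebraMap S₁ T s ∈ GLin.invariants k A T := hS₁ ▸ ⟨s, rfl⟩
      exact sub_eq_zero.2 this
  let rc := rightComm k S₀ S₀ T R₀ A
  let ΦA := Φ.toLinearMap.restrictScalars k
  have key : ∀ z : T ⊗[S₀] R₀, Comod.coact (k := k) (A := A) (Φ z) - Φ z ⊗ₜ[k] (1 : A) =
      (ΦA.rTensor A) (rc.symm ((D.rTensor R₀) z)) := by
    intro z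
    induction z using TensorProduct.induction_on with
    | zero => simp
    | tmul t r =>
      rw [LinearMap.rTensor_tmul, show D t = Comod.coact (k := k) (A := A) t - t ⊗ₜ[k] (1 : A) from rfl,
        TensorProduct.sub_tmul, map_sub, map_sub, TensorProduct.AlgebraTensorModule.rightComm_symm_tmul, hΦt, GLin.IsCoactAlg.coact_mul, hR₀, hT]
      congr 1
      · generalize Comod.coact (k := k) (A := A) t = w
        induction w using TensorProduct.induction_on with
        | zero => simp
        | tmul p a =>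
          rw [TensorProduct.AlgebraTensorModule.rightComm_symm_tmul, LinearMap.rTensor_tmul, Algebra.TensorProduct.map_tmul,
            Algebra.TensorProduct.tmul_mul_tmul, AlgHom.coe_id, id_eq, mul_one]
          exact congrArg (fun q => q ⊗ₜ[k] a) (hΦt p r).symm
        | add w w' h h' => rw [map_add, add_mul, TensorProduct.add_tmul, map_add, map_add, h, h']
    | add z z' h h' =>
      rw [map_add, map_add, TensorProduct.add_tmul, map_add, map_add, map_add, ← h, ← h']
      abel
  have hinj : Function.Injective (fun z => (ΦA.rTensor A) (rc.symm z)) :=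
    (Module.Flat.rTensor_preserves_injective_linearMap (M := A) ΦA hΦ.1).comp rc.symm.injective
  let χ : S₁ ⊗[S₀] R₀ →ₐ[S₀] Q := Φ.comp (Algebra.TensorProduct.map ι1 (AlgHom.id S₀ R₀))
  have hχi : Function.Injective χ :=
    hΦ.1.comp (Module.Flat.rTensor_preserves_injective_linearMap (M := R₀) ι1.toLinearMap hS₁i)
  have hrange : ∀ q : Q, (∃ x, χ x = q) ↔ ∃ r, algebraMap R₁ Q r = q := by
    intro q
    have hinv : (∃ r, algebraMap R₁ Q r = q) ↔ q ∈ GLin.invariants k A Q := by
      rw [← hR₁]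
      rfl
    rw [hinv]
    obtain ⟨z, rfl⟩ := hΦ.2 q
    have h1 : Φ z ∈ GLin.invariants k A Q ↔ (D.rTensor R₀) z = 0 := by
      constructor
      · intro h
        exact hinj (((key z).symm.trans (sub_eq_zero.2 h)).trans (by simp))
      · intro h
        exact sub_eq_zero.1 ((key z).trans (by simp [h]))
    rw [show Algebra.TensorProduct.productMap (IsScalarTower.toAlgHom S₀ T Q) (IsScalarTower.toAlgHom S₀ R₀ Q) z =
      Φ z from rfl, h1, ((Module.Flat.rTensor_exact R₀ hex) z)]
    constructor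
    · rintro ⟨x, hx⟩
      exact ⟨x, hΦ.1 hx⟩
    · rintro ⟨x, rfl⟩
      exact ⟨x, rfl⟩
  choose θ hθ using fun x => (hrange (χ x)).1 ⟨x, rfl⟩
  have hθalg : ∀ s : S₁, θ (s ⊗ₜ 1) = algebraMap S₁ R₁ s := fun s => hR₁i (by
    rw [hθ, ← IsScalarTower.algebraMap_apply, IsScalarTower.algebraMap_apply S₁ T Q]
    simp [χ, ι1, hΦt])
  let θa : S₁ ⊗[S₀] R₀ →ₐ[S₁] R₁ :=
    { toFun := θ
      map_one' := hR₁i (by rw [hθ, map_one, map_one])
      map_mul' := fun x y => hR₁i (by rw [hθ, map_mul, map_mul, hθ, hθ])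
      map_zero' := hR₁i (by rw [hθ, map_zero, map_zero])
      map_add' := fun x y => hR₁i (by rw [hθ, map_add, map_add, hθ, hθ])
      commutes' := fun s => hθalg s }
  have hθb : Function.Bijective θa := by
    refine ⟨fun x y h => hχi ((hθ x).symm.trans ((congrArg _ (show θ x = θ y from h)).trans (hθ y))), fun r => ?_⟩
    obtain ⟨x, hx⟩ := (hrange _).2 ⟨r, rfl⟩
    exact ⟨x, hR₁i ((hθ x).trans hx)⟩
  let eθ := AlgEquiv.ofBijective θa hθb
  refine ⟨e1, Algebra.Etale.of_equiv eθ, ?_⟩
  let P := Algebra.TensorProduct.productMap (IsScalarTower.toAlgHom S₁ T Q) (IsScalarTower.toAlgHom S₁ R₁ Q)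
  let L : T ⊗[S₁] R₁ ≃ₗ[S₁] T ⊗[S₁] (S₁ ⊗[S₀] R₀) := TensorProduct.congr (LinearEquiv.refl S₁ T) eθ.symm.toLinearEquiv
  let c := cancelBaseChange S₀ S₁ S₁ T R₀
  have hcomp : ∀ w, P w = Φ (c (L w)) := by
    intro w
    induction w using TensorProduct.induction_on with
    | zero => simp
    | tmul t r =>
      obtain ⟨x, rfl⟩ := hθb.2 r
      rw [show L (t ⊗ₜ θa x) = t ⊗ₜ eθ.symm (eθ x) from rfl, eθ.symm_apply_apply]
      show P (t ⊗ₜ θa x) = _
      rw [Algebra.TensorProduct.productMap_apply_tmul, show (IsScalarTower.toAlgHom S₁ R₁ Q) (θa x) = χ x from hθ x]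
      show algebraMap T Q t * χ x = _
      induction x using TensorProduct.induction_on with
      | zero => simp
      | tmul s r => simp [c, χ, ι1, hΦt, Algebra.smul_def, ← IsScalarTower.algebraMap_apply]; ring
      | add x y hx hy => rw [map_add, mul_add, hx, hy, TensorProduct.tmul_add, map_add, map_add]
    | add w w' h h' => rw [map_add, map_add, map_add, map_add, h, h']
  show Function.Bijective P
  rw [show (P : T ⊗[S₁] R₁ → Q) = Φ ∘ (fun w => c (L w)) from funext hcomp]
  exact hΦ.comp (c.bijective.comp L.bijective)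

end

end Groth.Agent.H20Strict
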